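import Groth.Agent.UniRad.TorusCrit
import Groth.Agent.RedLR.Unip
import Groth.Agent.UnipConil.Comodules
import Groth.Agent.Comod.Coeff
import Groth.Agent.HopfShrink.Basic
import Groth.Agent.RedLR.Semi
import Mathlib.LinearAlgebra.Semisimple

/-!
# Connected groups all of whose points are semisimple are tori
-/

set_option autoImplicit false
set_option linter.style.haveILetI false
set_option linter.unusedSectionVars false
set_option backward.isDefEq.respectTransparency false
set_option synthInstance.maxHeartbeats 400000
set_option maxHeartbeats 1000000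

universe u v

open CategoryTheory CategoryTheory.Limits MonoidalCategory CartesianMonoidalCategory MonObj GrpObj AlgebraicGeometry
open TensorProduct WithConv
open Groth.Agent.MTBridge (specGrp)
open Groth.Agent.Comod
open scoped Groth.Agent.Comod

noncomputable section

namespace Groth.Agent.SsTorus

variable {k : Type u} [Field k]

/-- A point acting trivially in all representations is the counit. -/
theorem eq_counit_of_act {A : Type v} [CommRing A] [Bialgebra k A] (g : A →ₐ[k] k)
    (h : ∀ (V : Type v) [AddCommGroup V] [Module k V] [HopfRep.Comod k A V],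
      Module.Finite k V → HopfRep.Comod.act k A V g = 1) : g = Bialgebra.counitAlgHom k A := by
  refine AlgHom.ext fun a => ?_
  obtain ⟨S, hS, hfin⟩ := exists_finite_subcomod_finset (K := k) (C := A) (V := A) {a}
  let W := ofDSub S
  letI := ComodSub.Comod.restr (inferInstance : HopfRep.Comod k A A) W (isSubcomod_ofDSub S)
  have hW : a ∈ W := hS a (Finset.mem_singleton_self a)
  have h2 := LinearMap.congr_fun (h W inferInstance) ⟨a, hW⟩
  have hc : W.subtype.rTensor A (HopfRep.Comod.coact (k := k) (A := A) (⟨a, hW⟩ : W)) = Coalgebra.comul (R := k) a :=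
    ComodSub.restr_coact_coe (inferInstance : HopfRep.Comod k A A) W (isSubcomod_ofDSub S) ⟨a, hW⟩
  have key : ∀ z : W ⊗[k] A, W.subtype (TensorProduct.rid k W (g.toLinearMap.lTensor W z)) =
      TensorProduct.rid k A (g.toLinearMap.lTensor A (W.subtype.rTensor A z)) := fun z => by
    induction z using TensorProduct.induction_on with
    | zero => simp
    | tmul x y => simp
    | add x y hx hy => simp only [map_add, hx, hy]
  have h3 : TensorProduct.rid k A (g.toLinearMap.lTensor A (Coalgebra.comul (R := k) a)) = a := by
    rw [← hc, ← key]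
    exact congrArg W.subtype h2
  have h4 : ∀ z : A ⊗[k] A, Coalgebra.counit (R := k) (TensorProduct.rid k A (g.toLinearMap.lTensor A z)) =
      g (TensorProduct.lid k A ((Coalgebra.counit (R := k) (A := A)).rTensor A z)) := fun z => by
    induction z using TensorProduct.induction_on with
    | zero => simp
    | tmul x y => simp [mul_comm]
    | add x y hx hy => simp only [map_add, hx, hy]
  have h5 := h4 (Coalgebra.comul (R := k) a)
  rw [h3, Coalgebra.rTensor_counit_comul, TensorProduct.lid_tmul, one_smul] at h5
  exact h5.symm

variable [IsAlgClosed k]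

/-- A unipotent group maps trivially to a group with semisimple points. -/
theorem comp_eq_counit {A B : Type u} [CommRing A] [HopfAlgebra k A] [CommRing B] [HopfAlgebra k B]
    (f : A →ₐc[k] B) (hB : HopfRep.IsUnipotent k B)
    (hss : ∀ (g : A →ₐ[k] k) (V : Type u) [AddCommGroup V] [Module k V] [HopfRep.Comod k A V],
      Module.Finite k V → Module.End.IsSemisimple (HopfRep.Comod.act k A V g))
    (g : B →ₐ[k] k) : g.comp (f : A →ₐ[k] B) = Bialgebra.counitAlgHom k A :=
  eq_counit_of_act _ fun V _ _ cV hfin => by
    let cB : HopfRep.Comod k B V := pushforward (f : A →ₗc[k] B) cV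
    have hn : IsNilpotent (@HopfRep.Comod.act k B _ _ _ V _ _ cB g - 1) :=
      @UnipConil.act_sub_one_nilpotent k _ B _ _ V _ _ cB hfin hB g
    have he : @HopfRep.Comod.act k B _ _ _ V _ _ cB g = HopfRep.Comod.act k A V (g.comp (f : A →ₐ[k] B)) := by
      refine LinearMap.ext fun x => ?_
      show TensorProduct.rid k V (g.toLinearMap.lTensor V
          ((f : A →ₗ[k] B).lTensor V (HopfRep.Comod.coact (k := k) (A := A) x))) = _
      rw [← LinearMap.lTensor_comp_apply]
      rfl
    rw [he] at hn
    haveI := hfin
    have hs := (hss (g.comp (f : A →ₐ[k] B)) V hfin).sub_of_commute (Commute.one_right _)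
      (Module.End.isSemisimple_id (R := k) (M := V))
    exact sub_eq_zero.1 (Module.End.eq_zero_of_isNilpotent_isSemisimple hn hs)

/-- A reduced group of finite type with one rational point is the trivial one. -/
theorem bijective_of_pts {B : Type u} [CommRing B] [HopfAlgebra k B] [Algebra.FiniteType k B]
    [_root_.IsReduced B] (hg : ∀ g : B →ₐ[k] k, g = Bialgebra.counitAlgHom k B) :
    Function.Bijective (algebraMap k B) := by
  have haug : ∀ x : B, Bialgebra.counitAlgHom k B x = 0 → x = 0 := by
    intro x hx
    haveI : IsJacobsonRing B := isJacobsonRing_of_finiteType (A := k) (B := B)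
    have hrad : (⊥ : Ideal B).IsRadical := by
      intro y hy
      obtain ⟨n, hn⟩ := hy
      exact IsReduced.eq_zero y ⟨n, hn⟩
    have h0 : x ∈ (⊥ : Ideal B).jacobson := by
      rw [Ideal.jacobson, Submodule.mem_sInf]
      rintro m ⟨-, hm⟩
      haveI := hm
      letI := Ideal.Quotient.field m
      haveI : Module.Finite k (B ⧸ m) := finite_of_finite_type_of_isJacobsonRing k (B ⧸ m)
      let ψ : (B ⧸ m) →ₐ[k] k := IsAlgClosed.lift
      have hφ : ψ.comp (Ideal.Quotient.mkₐ k m) x = 0 := by rw [hg (ψ.comp _)]; exact hx
      exact Ideal.Quotient.eq_zero_iff_mem.1 ((map_eq_zero_iff _ ψ.toRingHom.injective).1 hφ)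
    rwa [IsJacobsonRing.out ‹IsJacobsonRing B› hrad] at h0
  refine ⟨fun a b hab => ?_, fun b => ⟨Bialgebra.counitAlgHom k B b, ?_⟩⟩
  · have := congrArg (Bialgebra.counitAlgHom k B) hab
    simpa using this
  · exact (sub_eq_zero.1 (haug _ (by rw [map_sub, AlgHom.commutes]; exact sub_self _))).symm

/-- A closed subgroup without subtori of a group with semisimple points is trivial. -/
theorem isTrivialGrp_of_noSubtorus {A : Type u} [CommRing A] [HopfAlgebra k A]
    (hss : ∀ (g : A →ₐ[k] k) (V : Type u) [AddCommGroup V] [Module k V] [HopfRep.Comod k A V],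
      Module.Finite k V → Module.End.IsSemisimple (HopfRep.Comod.act k A V g))
    {B : Type u} [CommRing B] [HopfAlgebra k B] [Algebra.FiniteType k B] [_root_.IsReduced B]
    (hB : HopfRep.IsUnipotent k B) (w : (specGrp k B).X ⟶ (specGrp k A).X) [IsMonHom w] [Mono w] :
    Function.Bijective (algebraMap k B) := by
  obtain ⟨f, hf⟩ := MTBridge.exists_bialgHom w
  refine bijective_of_pts fun g => ?_
  let eA : (specGrp k A).X ≅ (specGrp k A).X := Iso.refl _
  let eB : (specGrp k B).X ≅ (specGrp k B).X := Iso.refl _
  haveI : IsMonHom eA.hom := inferInstanceAs (IsMonHom (𝟙 (specGrp k A).X))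
  haveI : IsMonHom eB.hom := inferInstanceAs (IsMonHom (𝟙 (specGrp k B).X))
  have hp : ((Chev.ProjRep.ptsEquiv eB).symm (toConv g)) ≫ w = 1 := by
    apply (Chev.ProjRep.ptsEquiv eA).injective
    rw [Chev.Borel.ptsEquiv_comp eB eA w (f : A →ₐ[k] B) (by
      show 𝟙 _ ≫ w.left = _ ≫ 𝟙 _
      rw [Category.id_comp, Category.comp_id, hf]) _, map_one, MulEquiv.apply_symm_apply,
      comp_eq_counit f hB hss g]
    rfl
  have h1 : (Chev.ProjRep.ptsEquiv eB).symm (toConv g) = 1 := by
    rw [← cancel_mono w, hp, MonObj.one_comp]
  rw [MulEquiv.symm_apply_eq, map_one] at h1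
  exact congrArg WithConv.ofConv h1

/-- Smoothness of a reduced group over a perfect field. -/
theorem smooth_spec_perfect {A : Type u} [CommRing A] [HopfAlgebra k A] [Algebra.FiniteType k A]
    [_root_.IsReduced A] : Smooth (specGrp k A).X.hom := by
  haveI := RedLR.locallyOfFiniteType_spec (k := k) (B := A)
  haveI : IsReduced (specGrp k A).X.left := inferInstanceAs (IsReduced (Spec (CommRingCat.of A)))
  letI : GrpObj (Over.mk (specGrp k A).X.hom) := inferInstanceAs (GrpObj (specGrp k A).X)
  exact GrpBasic.smooth_of_grpObj_perfect _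

/-- A connected affine group with semisimple points is a torus. -/
theorem isTorus_of_semisimple {G : Over (Spec (CommRingCat.of k))} [GrpObj G] [IsAffine G.left] [Smooth G.hom]
    [ConnectedSpace G.left] {A : Type u} [CommRing A] [HopfAlgebra k A]
    (eA : (specGrp k A).X ≅ G) [IsMonHom eA.hom]
    (hss : ∀ (g : A →ₐ[k] k) (V : Type u) [AddCommGroup V] [Module k V] [HopfRep.Comod k A V],
      Module.Finite k V → Module.End.IsSemisimple (HopfRep.Comod.act k A V g)) : Red.IsTorus G :=
  UniRad.isTorus_of_noUnipotent fun U _ i _ hic hUs hUc hUt => by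
    haveI := hic; haveI := hUs; haveI := hUc
    haveI : IsAffine U.left := isAffine_of_isAffineHom i.left
    obtain ⟨B, _, eU, heU⟩ := FinHopf.exists_hopf (R := CommRingCat.of k) U
    haveI := heU
    haveI : IsIso eU.hom.left := inferInstanceAs (IsIso ((Over.forget _).map eU.hom))
    haveI : Algebra.FiniteType k B := by
      have h0 : LocallyOfFiniteType (eU.hom.left ≫ U.hom) := inferInstance
      rw [Over.w eU.hom] at h0
      exact RingHom.finiteType_algebraMap.1 ((HasRingHomProperty.Spec_iff (P := @LocallyOfFiniteType)).1 h0)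
    haveI : _root_.IsReduced B := by
      haveI : IsReduced U.left := SmoothRed.isReduced_of_smooth_scheme U.hom
      haveI : IsReduced (Spec (CommRingCat.of B)) := isReduced_of_isOpenImmersion eU.hom.left
      exact (affine_isReduced_iff (CommRingCat.of B)).mp inferInstance
    have hB := RedLR.isUnipotent_of_hasNoSubtorus eU hUt
    haveI : Mono i.left := inferInstance
    haveI : Mono i := Over.mono_of_mono_left i
    have hbij : Function.Bijective (algebraMap k B) :=
      @isTrivialGrp_of_noSubtorus k _ _ A _ _ hss B _ _ _ _ hB (eU.hom ≫ i ≫ eA.inv) inferInstance (mono_comp _ _)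
    show IsIso U.hom
    have hi : IsIso (eU.hom.left ≫ U.hom) := by
      rw [Over.w eU.hom]
      show IsIso (Spec.map (CommRingCat.ofHom (algebraMap k B)))
      haveI : IsIso (CommRingCat.ofHom (algebraMap k B)) :=
        (RingEquiv.ofBijective _ hbij).toCommRingCatIso.isIso_hom
      infer_instance
    exact IsIso.of_isIso_comp_left eU.hom.left U.hom

theorem specHom_refl (A : Type u) [CommRing A] [HopfAlgebra k A] :
    IsMonHom (Iso.refl (specGrp k A).X).hom :=
  inferInstanceAs (IsMonHom (𝟙 (specGrp k A).X))

/-- A connected group all of whose points are semisimple is diagonalisable. -/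
theorem isDiagonalizable_small {A : Type u} [CommRing A] [HopfAlgebra k A] [Algebra.FiniteType k A]
    [_root_.IsReduced A] (hconn : ∀ e : A, IsIdempotentElem e → e = 0 ∨ e = 1)
    (hss : ∀ (g : A →ₐ[k] k) (V : Type u) [AddCommGroup V] [Module k V] [HopfRep.Comod k A V],
      Module.Finite k V → Module.End.IsSemisimple (HopfRep.Comod.act k A V g)) :
    HopfRep.IsDiagonalizable k A := by
  have hT : Red.IsTorus (specGrp k A).X :=
    @isTorus_of_semisimple k _ _ (specGrp k A).X _ (inferInstanceAs (IsAffine (Spec (CommRingCat.of A))))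
      smooth_spec_perfect (RedLR.connected_spec hconn) A _ _ (Iso.refl _) (specHom_refl A) hss
  obtain ⟨B, _, _, e, he, -, -, ⟨M, _, ⟨E⟩⟩⟩ := Chev.Borel.exists_hopf_torus hT
  haveI := he
  haveI : IsMonHom e.symm.hom := inferInstanceAs (IsMonHom e.inv)
  obtain ⟨F⟩ := MTBridge.nonempty_bialgEquiv (A := A) (B := B) (Grp.mkIso' e.symm)
  let H : A ≃ₐc[k] MonoidAlgebra k M := F.symm.trans E
  refine eq_top_iff.2 fun a _ => ?_
  obtain ⟨y, rfl⟩ : ∃ y, H.symm y = a := ⟨H a, H.symm_apply_apply a⟩
  induction y using MonoidAlgebra.induction_linear with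
  | zero => simp
  | add a b ha hb => rw [map_add]; exact add_mem (ha trivial) (hb trivial)
  | single m c =>
    rw [show MonoidAlgebra.single m c = c • MonoidAlgebra.single m (1 : k) by simp, map_smul]
    exact Submodule.smul_mem _ c (Submodule.subset_span ((MonoidAlgebra.isGroupLikeElem_single_one (R := k) (A := k) m).map H.symm))

/-- A comodule can be transported along a linear equivalence and a map of bialgebras. -/
theorem isSemisimple_act_transfer {A : Type v} [CommRing A] [HopfAlgebra k A] {B : Type u} [CommRing B]
    [HopfAlgebra k B] (e : B ≃ₐc[k] A)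
    (hss : ∀ (g : A →ₐ[k] k) (V : Type v) [AddCommGroup V] [Module k V] [HopfRep.Comod k A V],
      Module.Finite k V → Module.End.IsSemisimple (HopfRep.Comod.act k A V g))
    (g : B →ₐ[k] k) (V : Type u) [AddCommGroup V] [Module k V] [cV : HopfRep.Comod k B V] [hV : Module.Finite k V] :
    Module.End.IsSemisimple (HopfRep.Comod.act k B V g) := by
  haveI : Nontrivial A := (Bialgebra.counitAlgHom k A).toRingHom.domain_nontrivial
  haveI : Small.{v} k := small_of_injective (algebraMap k A).injective
  let n := Module.finrank k V
  haveI : Small.{v} (Fin n → k) := inferInstance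
  haveI : Small.{v} V := small_map (Module.finBasis k V).equivFun.toEquiv
  let V' := Shrink.{v} V
  let l : V' ≃ₗ[k] V := Shrink.linearEquiv k V
  let c : V →ₗ[k] V ⊗[k] A := (e : B →ₗ[k] A).lTensor V ∘ₗ cV.coact
  let cA : HopfRep.Comod k A V := pushforward (e : B →ₗc[k] A) cV
  let c' : HopfRep.Comod k A V' :=
    { coact := l.symm.toLinearMap.rTensor A ∘ₗ cA.coact ∘ₗ l.toLinearMap
      coassoc := by
        refine LinearMap.ext fun x => ?_
        have h1 := LinearMap.congr_fun cA.coassoc (l x)
        simp only [LinearMap.comp_apply, LinearEquiv.coe_coe] at h1 ⊢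
        have h2 : ∀ z : V ⊗[k] A,
            (l.symm.toLinearMap.rTensor A ∘ₗ cA.coact ∘ₗ l.toLinearMap).rTensor A (l.symm.toLinearMap.rTensor A z) =
              (l.symm.toLinearMap.rTensor A).rTensor A (cA.coact.rTensor A z) := fun z => by
          induction z using TensorProduct.induction_on with
          | zero => simp
          | tmul a b => simp
          | add a b ha hb => simp only [map_add, ha, hb]
        have h3 : ∀ z : (V ⊗[k] A) ⊗[k] A,
            TensorProduct.assoc k V' A A ((l.symm.toLinearMap.rTensor A).rTensor A z) =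
              l.symm.toLinearMap.rTensor (A ⊗[k] A) (TensorProduct.assoc k V A A z) := fun z => by
          induction z using TensorProduct.induction_on with
          | zero => simp
          | tmul a b =>
            induction a using TensorProduct.induction_on with
            | zero => simp
            | tmul x y => simp
            | add x y hx hy => simp only [map_add, TensorProduct.add_tmul, hx, hy]
          | add a b ha hb => simp only [map_add, ha, hb]
        rw [h2, h3, h1]
        exact LinearMap.congr_fun (LinearMap.rTensor_comp_lTensor (f := l.symm.toLinearMap)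
          (g := Coalgebra.comul (R := k) (A := A))) _ |>.trans
          (LinearMap.congr_fun (LinearMap.lTensor_comp_rTensor (f := l.symm.toLinearMap)
          (g := Coalgebra.comul (R := k) (A := A))) _).symm
      counit_comp := by
        refine LinearMap.ext fun x => ?_
        have h1 := LinearMap.congr_fun cA.counit_comp (l x)
        simp only [LinearMap.comp_apply, LinearEquiv.coe_coe] at h1 ⊢
        rw [← LinearMap.comp_apply, LinearMap.lTensor_comp_rTensor, ← LinearMap.rTensor_comp_lTensor,
          LinearMap.comp_apply, h1]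
        simp }
  let g' : A →ₐ[k] k := g.comp (e.symm : A →ₐ[k] B)
  have hs := @hss g' V' _ _ c' (Module.Finite.equiv l.symm)
  have h : l.conj (@HopfRep.Comod.act k A _ _ _ V' _ _ c' g') = HopfRep.Comod.act k B V g := by
    refine LinearMap.ext fun x => ?_
    rw [LinearEquiv.conj_apply_apply]
    show l (TensorProduct.rid k V' (g'.toLinearMap.lTensor V' (l.symm.toLinearMap.rTensor A
      ((e : B →ₗ[k] A).lTensor V (cV.coact (l (l.symm x))))))) = _
    rw [l.apply_symm_apply]
    show _ = TensorProduct.rid k V (g.toLinearMap.lTensor V (cV.coact x))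
    induction cV.coact x using TensorProduct.induction_on with
    | zero => simp
    | tmul a b => simp [g']
    | add a b ha hb => simp only [map_add, ha, hb]
  rw [← h]
  exact LinearEquiv.isSemisimple_iff _ _ l (by
    refine LinearMap.ext fun y => ?_
    simp [LinearEquiv.conj_apply_apply]) |>.1 hs

/-- A connected group all of whose points are semisimple is diagonalisable, in any universe. -/
theorem isDiagonalizable {A : Type v} [CommRing A] [HopfAlgebra k A] [Algebra.FiniteType k A]
    [_root_.IsReduced A] (hconn : ∀ e : A, IsIdempotentElem e → e = 0 ∨ e = 1)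
    (hss : ∀ (g : A →ₐ[k] k) (V : Type v) [AddCommGroup V] [Module k V] [HopfRep.Comod k A V],
      Module.Finite k V → Module.End.IsSemisimple (HopfRep.Comod.act k A V g)) :
    HopfRep.IsDiagonalizable k A := by
  obtain ⟨n, φ, hφ⟩ := Algebra.FiniteType.iff_quotient_mvPolynomial''.1 ‹Algebra.FiniteType k A›
  haveI : Small.{u} A := small_of_surjective hφ
  obtain ⟨B, _, _, ⟨e⟩⟩ := HopfShrink.exists_small.{u, v, u} k A
  haveI : Algebra.FiniteType k B := Algebra.FiniteType.of_surjective (e.symm : A →ₐ[k] B) e.symm.surjective
  haveI : _root_.IsReduced B := isReduced_of_injective (e : B →ₐ[k] A) e.injective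
  have h := isDiagonalizable_small (A := B) (fun x hx => (hconn (e x) (hx.map (e : B →ₐ[k] A))).imp
      (fun h => e.injective (h.trans (map_zero e).symm)) (fun h => e.injective (h.trans (map_one e).symm)))
    fun g V _ _ _ hV => isSemisimple_act_transfer e hss g V
  refine eq_top_iff.2 fun a _ => ?_
  obtain ⟨b, rfl⟩ : ∃ b, e b = a := ⟨e.symm a, e.apply_symm_apply a⟩
  have hb : b ∈ Submodule.span k {x : B | IsGroupLikeElem k x} := by rw [h]; trivial
  induction hb using Submodule.span_induction with
  | mem x hx => exact Submodule.subset_span (IsGroupLikeElem.map e hx)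
  | zero => simp
  | add x y _ _ hx hy => rw [map_add]; exact add_mem (hx trivial) (hy trivial)
  | smul c x _ hx => rw [map_smul]; exact Submodule.smul_mem _ c (hx trivial)

end Groth.Agent.SsTorus
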